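import Cfsg.Agent.H37.Weyl.Sound
import Cfsg.Prelude.Def_ChevD4

/-! Machine-generated certificate for the Weyl group of type D4 (see `Weyl/Cert.lean`). -/
set_option autoImplicit false

namespace Cfsg.Agent.H37.Weyl

/-- The certificate of type D4. -/
def certD4 : Cert where
  sig := [0x1711100f0e05161514130d0c0b0a04030201120908070600, 0x161715141213110d0c09100f08070e0b0a06040503020001, 0x1714131615120f0e11100a0c0b0d07060908050201040300, 0x17151613141210110e0f0d0b0c0a08090607050304010200]
  coefT := [0x1111111111111010101010101010101010100f0f0f0f0f0f, 0x12111111111011111111101010100f0f0f0f100f0f0f0f0e, 0x111111101010111110101110100f10100f0f1010100f0f0f, 0x1111101110101110111010110f10100f100f10100f100f0f]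
  hiT := [0x10101010101010101010101010101010101010101010101, 0x10101010100010101010101010101010101000101010101, 0x10101010000010101000101010100010101000001010101, 0x10100010000010001000001010000010001000001000101, 0x0]
  levels := [
    ⟨[[], [0]],
      [0x1],
      [0x0],
      [0x100]⟩,
    ⟨[[], [1], [1, 0]],
      [0x10200, 0x20001],
      [0x0, 0x10000],
      [0x10002, 0x30100]⟩,
    ⟨[[], [2], [2, 1], [2, 1, 0]],
      [0x2030100, 0x3010200, 0x3020001],
      [0x100, 0x2000000, 0x2010000],
      [0x1000502, 0x3010002, 0x3040100]⟩,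
    ⟨[[], [3], [3, 1], [3, 1, 0], [3, 1, 2], [3, 1, 0, 2], [3, 1, 0, 2, 1], [3, 1, 0, 2, 1, 3]],
      [0x706040502030100, 0x705060403010200, 0x706030205040100, 0x607050403020001],
      [0x403010100000100, 0x400000202000000, 0x403000000000100, 0x30202010000],
      [0x604050501000602, 0x601000503010002, 0x604010100000602, 0x100030503040100]⟩]

theorem goodD4 : Good certD4 Cfsg.Lie.chevD4 Cfsg.Lie.coxeterD4 := ⟨by decide +kernel⟩

end Cfsg.Agent.H37.Weyl
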