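import Cfsg.Agent.H37.Weyl.Sound

/-!
Closed forms for the inversion polynomial and the order of a Coxeter element, by kernel checks.
-/
set_option autoImplicit false

namespace Cfsg.Agent.H37.Weyl

open Cfsg.Lie

/-- Horner evaluation of a coefficient list. -/
def evalC {R : Type*} [CommSemiring R] (q : R) : List ℕ → R
  | [] => 0
  | a :: l => (a : R) + q * evalC q l

/-- Add two coefficient lists. -/
def addC : List ℕ → List ℕ → List ℕ
  | [], l => l
  | a :: l, [] => a :: l
  | a :: l, b :: m => (a + b) :: addC l m

/-- Multiply two coefficient lists. -/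
def mulC : List ℕ → List ℕ → List ℕ
  | [], _ => []
  | a :: l, m => addC (m.map (a * ·)) (match mulC l m with | [] => [] | c :: r => 0 :: c :: r)

/-- Add one at exponent `e`. -/
def bumpC : ℕ → List ℕ → List ℕ
  | 0, [] => [1]
  | 0, a :: l => (a + 1) :: l
  | e + 1, [] => 0 :: bumpC e []
  | e + 1, a :: l => a :: bumpC e l

section
variable {R : Type*} [CommSemiring R] (q : R)

lemma evalC_addC : ∀ l m : List ℕ, evalC q (addC l m) = evalC q l + evalC q m
  | [], l => by simp [addC, evalC]
  | a :: l, [] => by simp [addC, evalC]
  | a :: l, b :: m => by simp [addC, evalC, evalC_addC l m]; ring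

lemma evalC_smul (a : ℕ) : ∀ m : List ℕ, evalC q (m.map (a * ·)) = a * evalC q m
  | [] => by simp [evalC]
  | b :: m => by simp [evalC, evalC_smul a m]; ring

lemma evalC_mulC : ∀ l m : List ℕ, evalC q (mulC l m) = evalC q l * evalC q m
  | [], m => by simp [mulC, evalC]
  | a :: l, m => by
      have h : evalC q (match mulC l m with | [] => [] | c :: r => 0 :: c :: r)
          = q * evalC q (mulC l m) := by cases mulC l m <;> simp [evalC]
      simp [mulC, evalC_addC, evalC_smul, h, evalC_mulC l m, evalC]; ring

lemma evalC_bumpC : ∀ (e : ℕ) (l : List ℕ), evalC q (bumpC e l) = q ^ e + evalC q l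
  | 0, [] => by simp [bumpC, evalC]
  | 0, a :: l => by simp [bumpC, evalC]; ring
  | e + 1, [] => by simp [bumpC, evalC, evalC_bumpC e []]; ring
  | e + 1, a :: l => by simp [bumpC, evalC, evalC_bumpC e l]; ring

lemma evalC_exps : ∀ l : List ℕ, evalC q (l.foldr bumpC []) = (l.map (q ^ ·)).sum
  | [] => by simp [evalC]
  | e :: l => by simp [evalC_bumpC, evalC_exps l]

lemma evalC_ones : ∀ d : ℕ, evalC q (List.replicate d 1) = ∑ i ∈ Finset.range d, q ^ i
  | 0 => by simp [evalC]
  | d + 1 => by
      rw [Finset.sum_range_succ']
      simp [List.replicate_succ, evalC, evalC_ones d, Finset.mul_sum, pow_succ']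
      rw [add_comm]

lemma evalC_prod : ∀ ls : List (List ℕ),
    evalC q (ls.foldr mulC [1]) = (ls.map (evalC q)).prod
  | [] => by simp [evalC]
  | l :: ls => by simp [evalC_mulC, evalC_prod ls]

end

namespace Cert

variable (C : Cert)

/-- The product of the step polynomials equals the product of the geometric series of the degrees. -/
def degCheck (n : ℕ) (degs : List ℕ) : Bool :=
  ((List.range n).map fun k => (((C.levels.getD k ⟨[], [], [], []⟩).words.map List.length).foldr
      bumpC [])).foldr mulC [1] == (degs.map fun d => List.replicate d 1).foldr mulC [1]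

theorem prod_stepPoly {R : Type*} [CommSemiring R] (q : R) {n : ℕ} {degs : List ℕ}
    (h : C.degCheck n degs = true) :
    ∏ j ∈ Finset.range n, C.stepPoly j q
      = (degs.map fun d => ∑ i ∈ Finset.range d, q ^ i).prod := by
  rw [Cert.degCheck, beq_iff_eq] at h
  have h' := congrArg (evalC q) h
  rw [evalC_prod, evalC_prod, List.map_map, List.map_map] at h'
  have e1 : (fun j => C.stepPoly j q) = evalC q ∘ fun k =>
      ((C.levels.getD k ⟨[], [], [], []⟩).words.map List.length).foldr bumpC [] := by
    funext k
    simp only [Function.comp_apply, evalC_exps, List.map_map, stepPoly]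
    rfl
  have e2 : (fun d => ∑ i ∈ Finset.range d, q ^ i) = evalC q ∘ fun d => List.replicate d 1 := by
    funext d; simp [evalC_ones]
  rw [e2, ← h', ← List.toFinset_range, List.prod_toFinset _ List.nodup_range, e1]

/-- The product of all generators has order `h` on the roots. -/
def coxCheck (n N h : ℕ) : Bool :=
  let step := fun (l : List ℕ) => l.map (C.act (List.range n))
  let orbit := fun m => (step^[m]) (List.range N)
  decide (0 < h) && (orbit h == List.range N) &&
    ((List.range h).all fun m => (m == 0) || (orbit m != List.range N))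

end Cert

namespace Good

variable {n : ℕ} {M : CoxeterMatrix (Fin n)} {C : Cert} {D : ChevalleyDatum}

theorem sum_pow_inv_eq (hC : Good C D M) {R : Type*} [CommSemiring R] (q : R) [Fintype M.Group]
    {degs : List ℕ} (h : C.degCheck n degs = true) :
    ∑ g : M.Group, q ^ hC.inv g = (degs.map fun d => ∑ i ∈ Finset.range d, q ^ i).prod := by
  rw [hC.sum_pow_inv, C.prod_stepPoly q h]

theorem card_eq (hC : Good C D M) {N : ℕ}
    (h : ((List.range n).map fun k => (lev C k).words.length).prod = N) :
    Nat.card M.Group = N := by
  rw [hC.card_group, ← h, ← List.prod_toFinset _ List.nodup_range, List.toFinset_range]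

theorem orderOf_coxeter (hC : Good C D M) {h : ℕ} (hc : C.coxCheck n D.nroots h = true) :
    orderOf ((List.finRange n).map M.simple).prod = h := by
  have hw : ((List.finRange n).map M.simple).prod = wOf M (List.range n) := by
    rw [wOf, ← List.map_coe_finRange_eq_range, List.map_map]
    congr 1
    exact List.map_congr_left fun i _ => by simp [gen]
  have hlt : ∀ i ∈ List.range n, i < n := fun i hi => List.mem_range.1 hi
  set σ := hC.hom (wOf M (List.range n))
  have hstep : ∀ (m : ℕ), ((fun l : List ℕ => l.map (C.act (List.range n)))^[m])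
      (List.range D.nroots) = (List.finRange D.nroots).map fun r => ((σ ^ m) r).val := by
    intro m
    induction m with
    | zero => simp [List.map_coe_finRange_eq_range]
    | succ m ih =>
        rw [Function.iterate_succ_apply', ih, List.map_map]
        refine List.map_congr_left fun r _ => ?_
        rw [Function.comp_apply, pow_succ', Equiv.Perm.mul_apply, hC.hom_wOf_val hlt]
  have hone : ∀ m, ((fun l : List ℕ => l.map (C.act (List.range n)))^[m])
      (List.range D.nroots) = List.range D.nroots ↔ σ ^ m = 1 := by
    intro m
    rw [hstep, ← List.map_coe_finRange_eq_range, List.map_inj_left]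
    constructor
    · intro he; ext r; simpa using he r (List.mem_finRange r)
    · intro he r _; simp [he]
  rw [hw, ← orderOf_injective hC.hom hC.hom_injective]
  simp only [Cert.coxCheck, Bool.and_eq_true, decide_eq_true_eq, List.all_eq_true, List.mem_range,
    beq_iff_eq, Bool.or_eq_true, bne_iff_ne] at hc
  refine (orderOf_eq_iff hc.1.1).2 ⟨(hone h).1 hc.1.2, fun m hm h0 he => ?_⟩
  rcases hc.2 m hm with h1 | h1
  · omega
  · exact h1 ((hone m).2 he)

end Good

end Cfsg.Agent.H37.Weyl
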