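import Cfsg.Agent.H37.Weyl.Sound
import Cfsg.Prelude.Def_ChevF4

/-! Machine-generated certificate for the Weyl group of type F4 (see `Weyl/Cert.lean`). -/
set_option autoImplicit false

namespace Cfsg.Agent.H37.Weyl

/-- The certificate of type F4. -/
def certF4 : Cert where
  sig := [0x2f2e2d28201f1e2c2726251d1c1b0e2b2a292423221a19181716150d0c0b060504211413120a09080311100f07020100, 0x2f2e2b2c2d2a292728242326252122201a191d1c141f1e181711101b131216150f0d0e0a090c0b070806050203040100, 0x2f2d2e2c2a2b2928262725242223211f201e1d1b1c18161a151917131412110f100e0c0d0b0a08090706040503010200, 0x2e2f2d2c2b292a2827252623242221201e1f1c1d1b191a1718151614121310110f0e0d0b0c090a080705060403020001]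
  coefT := [0x1111111211111111111111111111111010101010101010101010101010101010100f0f0f0f0f0f0f0f0f0f0f0e0f0f0f, 0x1212121311111113121212111111101111111111111010101010100f0f0f0f0f0f100f0f0f0e0e0e0d0f0f0f0d0e0e0e, 0x131312141211111414121212121010121111121210111110100f0f100e0e0f0f0e10100e0e0e0e0c0c0f0f0e0c0e0d0d, 0x1211111211111012121210121010101111101210101110110f100f10100e100f0f1010100e100e0e0e100f0f0e0f0f0e]
  hiT := [0x10101010101010101010101010101010101010101010101010101010101010101010101010101010101010101010101, 0x10101010101010101010101010100010101010101010101010101010101010101000101010101010101010101010101, 0x10101010101010101010101010000010101010100010101010101000101010101000001010101010101010101010101, 0x10101010101000101010001000000010100010000010001010001000001000101000000010001010100010101010101, 0x0]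
  levels := [
    ⟨[[], [0]],
      [0x1],
      [0x0],
      [0x100]⟩,
    ⟨[[], [1], [1, 0]],
      [0x10200, 0x20001],
      [0x0, 0x10000],
      [0x10002, 0x30100]⟩,
    ⟨[[], [2], [2, 1], [2, 1, 0], [2, 1, 2], [2, 1, 0, 2], [2, 1, 0, 2, 1], [2, 1, 0, 2, 1, 2]],
      [0x706040502030100, 0x705060403010200, 0x607030205040001],
      [0x302010100000100, 0x300000102000000, 0x0],
      [0x504050501000502, 0x501000503010002, 0x100010100000100]⟩,
    ⟨[[], [3], [3, 2], [3, 2, 1], [3, 2, 1, 0], [3, 2, 1, 2], [3, 2, 1, 0, 2], [3, 2, 1, 2, 3], [3, 2, 1, 0, 2, 1], [3, 2, 1, 0, 2, 3], [3, 2, 1, 0, 2, 1, 2], [3, 2, 1, 0, 2, 1, 3], [3, 2, 1, 0, 2, 1, 2, 3], [3, 2, 1, 0, 2, 1, 3, 2], [3, 2, 1, 0, 2, 1, 2, 3, 2], [3, 2, 1, 0, 2, 1, 3, 2, 1], [3, 2, 1, 0, 2, 1, 2, 3, 2, 1], [3, 2, 1, 0, 2, 1, 3, 2, 1, 0], [3, 2, 1, 0, 2, 1, 2, 3, 2, 1, 0], [3, 2, 1, 0, 2, 1, 2, 3, 2, 1, 2], [3, 2, 1, 0, 2, 1, 2, 3, 2, 1, 0, 2], [3, 2, 1, 0, 2, 1, 2, 3, 2, 1, 0, 2, 1], [3, 2, 1, 0, 2, 1, 2, 3, 2, 1, 0, 2, 1, 2], [3, 2, 1, 0, 2,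 1, 2, 3, 2, 1, 0, 2, 1, 2, 3]],
      [0x1716151314100f12110e0d0c0b0a07080905060304020100, 0x171614151312110e0d100f0c090a0b060708050402030100, 0x17151612101411130f0c0b0e0d08090a0704030605010200, 0x161715141311120f100d0e0a080c060b0509070403020001],
      [0x90807010100000000060505040402030201010000020100, 0x90800000607060000000005010401000300020300000100, 0x90000000000060005000000000004000300000000000000, 0x8070603030202010100000000000000000302010000],
      [0x60504050501010000050506040506040605050100050602, 0x60501000503030101000006060506010600050301000602, 0x60100010100030004010100000103000601010000010002, 0x10004030503030404050501010001000100000304050100]⟩]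

theorem goodF4 : Good certF4 Cfsg.Lie.chevF4 CoxeterMatrix.F₄ := ⟨by decide +kernel⟩

end Cfsg.Agent.H37.Weyl
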