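import Cfsg.Agent.H37.Weyl.Sound
import Cfsg.Prelude.Def_ChevG2

/-! Machine-generated certificate for the Weyl group of type G2 (see `Weyl/Cert.lean`). -/
set_option autoImplicit false

namespace Cfsg.Agent.H37.Weyl

/-- The certificate of type G2. -/
def certG2 : Cert where
  sig := [0xb060809040a010702030500, 0xa0b09070805060304020001]
  coefT := [0x111112111110100f0f0e0f0f, 0x1211131310110f100d0d0f0e]
  hiT := [0x10101010101010101010101, 0x10101010001010001010101, 0x0]
  levels := [
    ⟨[[], [0]],
      [0x1],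
      [0x0],
      [0x100]⟩,
    ⟨[[], [1], [1, 0], [1, 0, 1], [1, 0, 1, 0], [1, 0, 1, 0, 1]],
      [0x50304010200, 0x40502030001],
      [0x10000000000, 0x0],
      [0x40100010002, 0x10001000100]⟩]

theorem goodG2 : Good certG2 Cfsg.Lie.chevG2 CoxeterMatrix.G₂ := ⟨by decide +kernel⟩

end Cfsg.Agent.H37.Weyl
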