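import Cfsg.Agent.H37.Weyl.B2
import Cfsg.Agent.H37.Weyl.G2
import Cfsg.Agent.H37.Weyl.D4
import Cfsg.Agent.H37.Weyl.F4
import Cfsg.Agent.H37.Weyl.E6
import Cfsg.Agent.H37.Weyl.E7
import Cfsg.Agent.H37.Weyl.E8
import Cfsg.Agent.H37.Weyl.Extras

/-!
The seven Weyl groups: orders, Coxeter element orders, degree checks. The faithful action on root
indices is `good<T>.hom`, injective by `Good.hom_injective`; `Good.sum_pow_inv_eq` with `degs<T>`
gives the inversion polynomial.
-/
set_option autoImplicit false

namespace Cfsg.Agent.H37.Weyl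

theorem degsB2 : Cert.degCheck certB2 2 [2, 4] = true := by decide +kernel

theorem coxB2 : Cert.coxCheck certB2 2 8 4 = true := by decide +kernel

theorem cardB2 : Nat.card (CoxeterMatrix.B 2).Group = 8 := goodB2.card_eq (by decide +kernel)

theorem coxeterOrderB2 :
    orderOf ((List.finRange 2).map (CoxeterMatrix.B 2).simple).prod = 4 :=
  goodB2.orderOf_coxeter coxB2

theorem degsG2 : Cert.degCheck certG2 2 [2, 6] = true := by decide +kernel

theorem coxG2 : Cert.coxCheck certG2 2 12 6 = true := by decide +kernel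

theorem cardG2 : Nat.card CoxeterMatrix.G₂.Group = 12 := goodG2.card_eq (by decide +kernel)

theorem coxeterOrderG2 :
    orderOf ((List.finRange 2).map CoxeterMatrix.G₂.simple).prod = 6 :=
  goodG2.orderOf_coxeter coxG2

theorem degsD4 : Cert.degCheck certD4 4 [2, 4, 4, 6] = true := by decide +kernel

theorem coxD4 : Cert.coxCheck certD4 4 24 6 = true := by decide +kernel

theorem cardD4 : Nat.card Cfsg.Lie.coxeterD4.Group = 192 := goodD4.card_eq (by decide +kernel)

theorem coxeterOrderD4 :
    orderOf ((List.finRange 4).map Cfsg.Lie.coxeterD4.simple).prod = 6 :=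
  goodD4.orderOf_coxeter coxD4

theorem degsF4 : Cert.degCheck certF4 4 [2, 6, 8, 12] = true := by decide +kernel

theorem coxF4 : Cert.coxCheck certF4 4 48 12 = true := by decide +kernel

theorem cardF4 : Nat.card CoxeterMatrix.F₄.Group = 1152 := goodF4.card_eq (by decide +kernel)

theorem coxeterOrderF4 :
    orderOf ((List.finRange 4).map CoxeterMatrix.F₄.simple).prod = 12 :=
  goodF4.orderOf_coxeter coxF4

theorem degsE6 : Cert.degCheck certE6 6 [2, 5, 6, 8, 9, 12] = true := by decide +kernel

theorem coxE6 : Cert.coxCheck certE6 6 72 12 = true := by decide +kernel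

theorem cardE6 : Nat.card CoxeterMatrix.E₆.Group = 51840 := goodE6.card_eq (by decide +kernel)

theorem coxeterOrderE6 :
    orderOf ((List.finRange 6).map CoxeterMatrix.E₆.simple).prod = 12 :=
  goodE6.orderOf_coxeter coxE6

theorem degsE7 : Cert.degCheck certE7 7 [2, 6, 8, 10, 12, 14, 18] = true := by decide +kernel

theorem coxE7 : Cert.coxCheck certE7 7 126 18 = true := by decide +kernel

theorem cardE7 : Nat.card CoxeterMatrix.E₇.Group = 2903040 := goodE7.card_eq (by decide +kernel)

theorem coxeterOrderE7 :
    orderOf ((List.finRange 7).map CoxeterMatrix.E₇.simple).prod = 18 :=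
  goodE7.orderOf_coxeter coxE7

theorem degsE8 : Cert.degCheck certE8 8 [2, 8, 12, 14, 18, 20, 24, 30] = true := by decide +kernel

theorem coxE8 : Cert.coxCheck certE8 8 240 30 = true := by decide +kernel

theorem cardE8 : Nat.card CoxeterMatrix.E₈.Group = 696729600 := goodE8.card_eq (by decide +kernel)

theorem coxeterOrderE8 :
    orderOf ((List.finRange 8).map CoxeterMatrix.E₈.simple).prod = 30 :=
  goodE8.orderOf_coxeter coxE8

end Cfsg.Agent.H37.Weyl
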