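import Cfsg.Agent.H37.Fold.E6
import Cfsg.Agent.H37.Fold.D4

/-!
Closed forms of the inversion polynomials, multiplied by the torus factors.
-/
set_option autoImplicit false

namespace Cfsg.Agent.H37.Fold

open Cfsg.Lie Cfsg.Agent.H37.Weyl

/-- The coefficient list of `q ^ m + 1`. -/
def binom (m : ℕ) : List ℕ := bumpC m [1]

lemma evalC_binom {R : Type*} [CommSemiring R] (q : R) (m : ℕ) : evalC q (binom m) = q ^ m + 1 := by
  simp [binom, evalC_bumpC, evalC]

/-- Coefficient list of a weighted step. -/
def stepList (T : Data) (C' : Cert) (k : ℕ) : List ℕ :=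
  (((lev C' k).words.map fun w => (w.map fun i => (T.word i).length).sum)).foldr bumpC []

lemma evalC_stepList {R : Type*} [CommSemiring R] (q : R) (T : Data) (C' : Cert) (k : ℕ) :
    evalC q (stepList T C' k) = Good.weightedStep T C' k q := by
  simp only [stepList, evalC_exps, Good.weightedStep, List.map_map]
  rfl

/-- The inversion polynomial of the folded `E₆` times `(q + 1)²`. -/
theorem poly_E6 {R : Type*} [CommSemiring R] (q : R) :
    (∏ j ∈ Finset.range 4, Good.weightedStep dataE6 certF4 j q) * (q + 1) * (q + 1)
      = (∑ i ∈ Finset.range 2, q ^ i) * (∑ i ∈ Finset.range 6, q ^ i) *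
        (∑ i ∈ Finset.range 8, q ^ i) * (∑ i ∈ Finset.range 12, q ^ i) * (q ^ 5 + 1) * (q ^ 9 + 1) := by
  have h : [stepList dataE6 certF4 0, stepList dataE6 certF4 1, stepList dataE6 certF4 2,
        stepList dataE6 certF4 3, binom 1, binom 1].foldr mulC [1]
      = [List.replicate 2 1, List.replicate 6 1, List.replicate 8 1, List.replicate 12 1,
        binom 5, binom 9].foldr mulC [1] := by decide +kernel
  have h' := congrArg (evalC q) h
  simp only [evalC_prod, List.map_cons, List.map_nil, List.prod_cons, List.prod_nil,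
    evalC_stepList, evalC_binom, evalC_ones, pow_one, mul_one] at h'
  rw [Finset.prod_range_succ, Finset.prod_range_succ, Finset.prod_range_succ,
    Finset.prod_range_succ, Finset.prod_range_zero, one_mul]
  simp only [mul_assoc] at h' ⊢
  exact h'

/-- The inversion polynomial of the folded `D₄` times `q² + q + 1`. -/
theorem poly_D4 {R : Type*} [CommSemiring R] (q : R) :
    (∏ j ∈ Finset.range 2, Good.weightedStep dataD4 certG2 j q) * (q ^ 2 + q + 1)
      = (∑ i ∈ Finset.range 2, q ^ i) * (∑ i ∈ Finset.range 6, q ^ i) *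
        (q ^ 8 + q ^ 4 + 1) := by
  have h : [stepList dataD4 certG2 0, stepList dataD4 certG2 1, [1, 1, 1]].foldr mulC [1]
      = [List.replicate 2 1, List.replicate 6 1, [1, 0, 0, 0, 1, 0, 0, 0, 1]].foldr mulC [1] := by
    decide +kernel
  have h' := congrArg (evalC q) h
  simp only [evalC_prod, List.map_cons, List.map_nil, List.prod_cons, List.prod_nil,
    evalC_stepList, evalC_ones, mul_one] at h'
  simp only [evalC, Nat.cast_one, Nat.cast_zero, mul_zero, add_zero, zero_add, mul_one] at h'
  rw [Finset.prod_range_succ, Finset.prod_range_succ, Finset.prod_range_zero, one_mul]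
  convert h' using 1 <;> ring

end Cfsg.Agent.H37.Fold
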