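import Cfsg.Agent.H37.Weyl.Extras
import Cfsg.Agent.H37.Weyl.Poly
import Cfsg.Agent.H37.NormalForm

/-!
Order formulas from a Bruhat normal form with cells of size `q ^ inv w`.
-/
set_option autoImplicit false

namespace Cfsg.Agent.H37

open Cfsg.Lie

lemma sub_one_mul_geom (q d : ℕ) (hq : 1 ≤ q) :
    (q - 1) * ∑ i ∈ Finset.range d, q ^ i = q ^ d - 1 := by
  induction d with
  | zero => simp
  | succ d ih =>
      rw [Finset.sum_range_succ, mul_add, ih, pow_succ, tsub_mul, one_mul]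
      have h1 : q ^ d ≤ q * q ^ d := Nat.le_mul_of_pos_left _ (by omega)
      have h2 : 1 ≤ q ^ d := Nat.one_le_pow _ _ (by omega)
      rw [mul_comm (q ^ d) q]
      omega

lemma prod_geom (q : ℕ) (hq : 1 ≤ q) : ∀ degs : List ℕ,
    (q - 1) ^ degs.length * (degs.map fun d => ∑ i ∈ Finset.range d, q ^ i).prod
      = (degs.map fun d => q ^ d - 1).prod
  | [] => by simp
  | d :: ds => by
      have ih := prod_geom q hq ds
      simp only [List.length_cons, List.map_cons, List.prod_cons, pow_succ]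
      rw [← ih, ← sub_one_mul_geom q d hq]
      ring

/-- The order formula for an untwisted type. -/
theorem card_of_cells {n : ℕ} {M : CoxeterMatrix (Fin n)} {C : Weyl.Cert} {D : ChevalleyDatum}
    (hC : Weyl.Good C D M) {degs : List ℕ} (hdeg : C.degCheck n degs = true)
    (hlen : degs.length = n) {G : Type*} [Group G] [Finite G] (Φ : NormalForm G M.Group)
    {q d N : ℕ} (hq : 1 ≤ q) (hU : Nat.card Φ.U = q ^ N) (hH : d * Nat.card Φ.H = (q - 1) ^ n)
    (hw : ∀ w, Nat.card (Φ.Uw w) = q ^ hC.inv w) :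
    d * Nat.card G = q ^ N * (degs.map fun e => q ^ e - 1).prod := by
  haveI := hC.finite
  haveI : Fintype M.Group := Fintype.ofFinite _
  rw [Φ.card_eq, hU, Finset.sum_congr rfl fun w _ => hw w, hC.sum_pow_inv_eq q hdeg,
    ← prod_geom q hq degs, hlen, ← hH]
  ring

open Fold Fold.Good in
/-- The order formula for `²E₆(q)`. -/
theorem card_of_cells_twistedE6 {G : Type*} [Group G] [Finite G]
    (Φ : NormalForm G CoxeterMatrix.F₄.Group) {q d : ℕ} (hq : 1 ≤ q)
    (hU : Nat.card Φ.U = q ^ 36) (hH : d * Nat.card Φ.H = (q - 1) ^ 4 * (q + 1) ^ 2)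
    (hw : ∀ w, Nat.card (Φ.Uw w) = q ^ (Weyl.goodE6).inv (goodE6.incl w)) :
    d * Nat.card G = q ^ 36 * (q ^ 2 - 1) * (q ^ 5 + 1) * (q ^ 6 - 1) * (q ^ 8 - 1) *
      (q ^ 9 + 1) * (q ^ 12 - 1) := by
  haveI := (Weyl.goodF4).finite
  haveI : Fintype CoxeterMatrix.F₄.Group := Fintype.ofFinite _
  rw [Φ.card_eq, hU, Finset.sum_congr rfl fun w _ => hw w, goodE6.sum_pow_inv q]
  calc d * (q ^ 36 * Nat.card Φ.H * ∏ j ∈ Finset.range 4, weightedStep dataE6 Weyl.certF4 j q)
      = q ^ 36 * (q - 1) ^ 4 *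
          ((∏ j ∈ Finset.range 4, weightedStep dataE6 Weyl.certF4 j q) * (q + 1) * (q + 1)) := by
        linear_combination (q ^ 36 * ∏ j ∈ Finset.range 4, weightedStep dataE6 Weyl.certF4 j q) * hH
    _ = _ := by
        rw [poly_E6, ← sub_one_mul_geom q 2 hq, ← sub_one_mul_geom q 6 hq,
          ← sub_one_mul_geom q 8 hq, ← sub_one_mul_geom q 12 hq]
        ring

open Fold Fold.Good in
/-- The order formula for `³D₄(q)`. -/
theorem card_of_cells_twistedD4 {G : Type*} [Group G] [Finite G]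
    (Φ : NormalForm G CoxeterMatrix.G₂.Group) {q : ℕ} (hq : 1 ≤ q)
    (hU : Nat.card Φ.U = q ^ 12) (hH : Nat.card Φ.H = (q - 1) ^ 2 * (q ^ 2 + q + 1))
    (hw : ∀ w, Nat.card (Φ.Uw w) = q ^ (Weyl.goodD4).inv (goodD4.incl w)) :
    Nat.card G = q ^ 12 * (q ^ 2 - 1) * (q ^ 6 - 1) * (q ^ 8 + q ^ 4 + 1) := by
  haveI := (Weyl.goodG2).finite
  haveI : Fintype CoxeterMatrix.G₂.Group := Fintype.ofFinite _
  rw [Φ.card_eq, hU, hH, Finset.sum_congr rfl fun w _ => hw w, goodD4.sum_pow_inv q]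
  calc q ^ 12 * ((q - 1) ^ 2 * (q ^ 2 + q + 1)) *
        (∏ j ∈ Finset.range 2, weightedStep dataD4 Weyl.certG2 j q)
      = q ^ 12 * (q - 1) ^ 2 *
          ((∏ j ∈ Finset.range 2, weightedStep dataD4 Weyl.certG2 j q) * (q ^ 2 + q + 1)) := by
        ring
    _ = _ := by
        rw [poly_D4, ← sub_one_mul_geom q 2 hq, ← sub_one_mul_geom q 6 hq]
        ring

end Cfsg.Agent.H37
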