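import Cfsg.Agent.H37.Weyl.Extras

/-!
Consequences of the certificate: descents, and inversion numbers weighted by an invariant weight.
-/
set_option autoImplicit false

namespace Cfsg.Agent.H37.Weyl

open Cfsg.Lie

namespace Good

variable {n : ℕ} {M : CoxeterMatrix (Fin n)} {C : Cert} {D : ChevalleyDatum} (hC : Good C D M)
include hC

lemma word_eq_nil {k : ℕ} (hk : k < n) {w : List ℕ} (hw : w ∈ (lev C k).words)
    (h : hC.inv (wOf M w) = 0) : w = [] :=
  List.eq_nil_iff_length_eq_zero.2 (by rw [← hC.inv_word hk hw, h])

/-- An element with no inversion is trivial. -/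
theorem eq_one_of_inv_eq_zero {g : M.Group} (h : hC.inv g = 0) : g = 1 := by
  suffices ∀ k ≤ n, ∀ g ∈ K M k, hC.inv g = 0 → g = 1 by
    exact this n le_rfl g (by rw [K_top]; exact Subgroup.mem_top g) h
  intro k
  induction k with
  | zero => intro _ g hg _; rwa [K_zero, Subgroup.mem_bot] at hg
  | succ k ih =>
      intro hk g hg h0
      have hk' : k < n := by omega
      obtain ⟨⟨a, g'⟩, he⟩ := (hC.step hk').surjective ⟨g, hg⟩
      have hg' : g'.1 * wOf M ((lev C k).word a.val) = g := congrArg Subtype.val he
      rw [Level.word_eq _ a.isLt] at hg'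
      have hmem : (lev C k).words[a.val] ∈ (lev C k).words := List.getElem_mem a.isLt
      have hadd := hC.inv_mul_word hk' hmem g'.2
      rw [hg', h0] at hadd
      have hnil := hC.word_eq_nil hk' hmem (by omega)
      rw [← hg', hnil, wOf_nil, mul_one]
      exact ih (by omega) g'.1 g'.2 (by omega)

/-- Multiplying by `s_i` lowers `inv` when `g p_i` is negative. -/
lemma inv_mul_gen_neg {g : M.Group} {i : ℕ} (hi : i < n)
    (hp : (hC.hom g ⟨D.simple i, (hC.simple_spec hi).2.1⟩).val < D.nroots / 2) :
    hC.inv (g * gen M i) + 1 = hC.inv g := by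
  have hs := hC.simple_spec hi
  have hsig : (hC.hom (g * gen M i) ⟨D.simple i, hs.2.1⟩).val ≥ D.nroots / 2 := by
    rw [map_mul, Equiv.Perm.mul_apply]
    have hev := hC.even
    set q := hC.hom (gen M i) ⟨D.simple i, hs.2.1⟩
    have hq : q.val = D.nroots - 1 - D.simple i := by
      show (hC.hom (gen M i) _).val = _
      rw [hC.hom_gen_val hi]
      show C.sigma i (D.simple i) = _
      by_contra hne
      have hlt := hC.sigma_spec hi (show D.nroots - 1 - C.sigma i (D.simple i) < D.nroots by omega)
      have h5 := hlt.2.2.2.2 (by omega) (fun h => hne (by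
        have := (hC.sigma_spec hi hs.2.1).1; omega))
      have h4 := (hC.sigma_spec hi (hC.sigma_spec hi hs.2.1).1).2.2.2.1
      rw [h4, (hC.sigma_spec hi hs.2.1).2.2.1] at h5
      have := hs.1
      omega
    have : q = ⟨D.nroots - 1 - D.simple i, by omega⟩ := Fin.ext hq
    rw [this, hC.hom_neg g ⟨D.simple i, hs.2.1⟩]
    omega
  have := hC.inv_mul_gen hi hsig
  rw [mul_assoc, gen_mul_self, mul_one] at this
  omega

/-- Every non-trivial element sends some fundamental root to a negative root. -/
theorem exists_descent {g : M.Group} (hg : g ≠ 1) :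
    ∃ i, ∃ hi : i < n,
      (hC.hom g ⟨D.simple i, (hC.simple_spec hi).2.1⟩).val < D.nroots / 2 := by
  by_contra hcon
  simp only [not_exists, not_lt] at hcon
  apply hg
  suffices ∀ k ≤ n, ∀ g' ∈ K M k, g' = g → hC.inv g' = 0 from
    hC.eq_one_of_inv_eq_zero (this n le_rfl g (by rw [K_top]; exact Subgroup.mem_top g) rfl)
  intro k
  induction k with
  | zero => intro _ g' hg' _; rw [K_zero, Subgroup.mem_bot] at hg'; rw [hg', hC.inv_one]
  | succ k ih =>
      intro hk g' hg' he'
      subst he'
      have hk' : k < n := by omega
      obtain ⟨⟨a, x⟩, he⟩ := (hC.step hk').surjective ⟨g', hg'⟩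
      have hx : x.1 * wOf M ((lev C k).word a.val) = g' := congrArg Subtype.val he
      rw [Level.word_eq _ a.isLt] at hx
      generalize hw : (lev C k).words[a.val] = w at hx
      have hmem : w ∈ (lev C k).words := hw ▸ List.getElem_mem a.isLt
      rcases List.eq_nil_or_concat w with rfl | ⟨u, i, rfl⟩
      · rw [wOf_nil, mul_one] at hx
        exact ih (by omega) g' (hx ▸ x.2) rfl
      · exfalso
        rw [List.concat_eq_append] at hmem hx
        have hl := (hC.word_spec hk' hmem).1
        have hi : i < n := by have := hl i (by simp); omega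
        have hlen := hC.inv_mul_word hk' hmem x.2
        rw [hx, hC.inv_word hk' hmem] at hlen
        have hu : g' * gen M i = x.1 * wOf M u := by
          rw [← hx, wOf_append, wOf_singleton, mul_assoc, mul_assoc, gen_mul_self, mul_one]
        have h1 := hC.inv_mul_gen hi (hcon i hi)
        rw [hu] at h1
        -- `inv (x * u) ≤ inv x + length u`, as `inv` grows by at most one per letter
        have hstep : ∀ (y : M.Group) (j : ℕ), j < n → hC.inv (y * gen M j) ≤ hC.inv y + 1 := by
          intro y j hj
          by_cases hy : (hC.hom y ⟨D.simple j, (hC.simple_spec hj).2.1⟩).val < D.nroots / 2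
          · have := hC.inv_mul_gen_neg hj hy; omega
          · have := hC.inv_mul_gen hj (g := y) (by omega); omega
        have hle : ∀ (v : List ℕ), (∀ j ∈ v, j < n) → ∀ y,
            hC.inv (y * wOf M v) ≤ hC.inv y + v.length := by
          intro v
          induction v with
          | nil => intro _ y; simp [wOf_nil]
          | cons j v ihv =>
              intro hv y
              rw [wOf_cons, ← mul_assoc, List.length_cons]
              have := ihv (fun l hl => hv l (by simp [hl])) (y * gen M j)
              have := hstep y j (hv j (by simp))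
              omega
        have := hle u (fun j hj => by have := hl j (by simp [hj]); omega) x.1
        simp only [List.length_append, List.length_singleton] at hlen
        omega

end Good

end Cfsg.Agent.H37.Weyl
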