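import Cfsg.Agent.H37.Weyl.Sound
import Cfsg.Prelude.Def_ChevB2

/-! Machine-generated certificate for the Weyl group of type B2 (see `Weyl/Cert.lean`). -/
set_option autoImplicit false

namespace Cfsg.Agent.H37.Weyl

/-- The certificate of type B2. -/
def certB2 : Cert where
  sig := [0x406020700050103, 0x705060304010200]
  coefT := [0x11111110100f0f0f, 0x111210110f100e0f]
  hiT := [0x101010101010101, 0x101000101000101, 0x0]
  levels := [
    ⟨[[], [0]],
      [0x1],
      [0x0],
      [0x100]⟩,
    ⟨[[], [1], [1, 0], [1, 0, 1]],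
      [0x3010200, 0x2030001],
      [0x1000000, 0x0],
      [0x4010002, 0x1000100]⟩]

theorem goodB2 : Good certB2 Cfsg.Lie.chevB2 (CoxeterMatrix.B 2) := ⟨by decide +kernel⟩

end Cfsg.Agent.H37.Weyl
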