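import Cfsg.Prelude.Def_ChevStructure

/-!
A kernel-checkable certificate that the Coxeter group `M.Group` acts faithfully on the root indices
of a Chevalley datum by `reflectRoot`, with its order and its inversion-number polynomial, via the
chain of standard parabolic subgroups on the first `k` generators.
-/
set_option autoImplicit false

namespace Cfsg.Agent.H37.Weyl

open Cfsg.Lie

/-- One step of the chain: coset representatives (words) and the coset table with the times and
kinds of the derivations of its edges, packed eight bits per coset. -/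
structure Level where
  words : List (List ℕ)
  tgt : List ℕ
  time : List ℕ
  kind : List ℕ

/-- The certificate. -/
structure Cert where
  sig : List ℕ
  /-- row `k`: an invariant of the roots under the generators below `k` -/
  coefT : List ℕ
  /-- row `k`: flags the roots with support at some index `≥ k` -/
  hiT : List ℕ
  levels : List Level

/-- Eight-bit digit. -/
def digit (x j : ℕ) : ℕ := (x >>> (8 * j)) % 256

namespace Level

variable (L : Level)

def word (a : ℕ) : List ℕ := L.words.getD a []
def tgtAt (a i : ℕ) : ℕ := digit (L.tgt.getD i 0) a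
def timeAt (a i : ℕ) : ℕ := digit (L.time.getD i 0) a
def kindAt (a i : ℕ) : ℕ := digit (L.kind.getD i 0) a

/-- Follow a word through edges of time less than `T`. -/
def walk (k T : ℕ) : List ℕ → ℕ → Option ℕ
  | [], a => some a
  | i :: w, a =>
      if i ≤ k ∧ a < L.words.length ∧ L.timeAt a i < T then walk k T w (L.tgtAt a i) else none

end Level

/-- The word `(s_l s_i)^(m-1) s_l`, equal to `s_i` when `(s_l s_i)^m = 1`. -/
def braidWord (i l : ℕ) : ℕ → List ℕ
  | 0 => [l]
  | m + 1 => l :: i :: braidWord i l m

namespace Cert

variable (C : Cert) (D : ChevalleyDatum) {n : ℕ} (M : CoxeterMatrix (Fin n))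

def sigma (i r : ℕ) : ℕ := digit (C.sig.getD i 0) r
def act (w : List ℕ) (r : ℕ) : ℕ := w.foldr C.sigma r
def coef (r k : ℕ) : ℕ := digit (C.coefT.getD k 0) r
def hiB (k r : ℕ) : Bool := digit (C.hiT.getD k 0) r == 1

def rootCheck (r : ℕ) : Bool :=
  ((List.range n).all fun i =>
    let s := C.sigma i r
    decide (s < D.nroots) && (s == D.reflectRoot i r) && (C.sigma i s == r) &&
    (C.sigma i (D.nroots - 1 - r) == D.nroots - 1 - s) &&
    (decide (r < D.nroots / 2) || (r == D.simple i) || decide (D.nroots / 2 ≤ s))) &&
  !(C.hiB n r) &&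
  ((List.range (n + 1)).all fun k => C.hiB k (D.nroots - 1 - r) == C.hiB k r)

def mEntry (i l : ℕ) : ℕ := if h : i < n ∧ l < n then M.M ⟨i, h.1⟩ ⟨l, h.2⟩ else 0

def iter (i j : ℕ) : ℕ → ℕ → ℕ
  | 0, r => r
  | m + 1, r => C.sigma i (C.sigma j (iter i j m r))

def relCheck : Bool :=
  (List.range n).all fun i => (List.range n).all fun j =>
    (List.range D.nroots).all fun r => C.iter i j (mEntry M i j) r == r

def baseCheck : Bool :=
  decide (D.rank = n) && decide (2 * (D.nroots / 2) = D.nroots) &&
  decide (C.levels.length = n) &&
  ((List.range n).all fun i =>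
    decide (D.nroots / 2 ≤ D.simple i) && decide (D.simple i < D.nroots) &&
    decide (C.sigma i (D.simple i) < D.nroots / 2)) &&
  (List.range D.nroots).all (C.rootCheck D (n := n)) && C.relCheck D M

def tuple (k : ℕ) (w : List ℕ) : List ℕ :=
  (List.range (k + 1)).map fun i => C.coef (C.act w (D.simple i)) k

def edgeCheck (L : Level) (k a i : ℕ) : Bool :=
  let b := L.tgtAt a i
  decide (b < L.words.length) &&
  match L.kindAt a i with
  | 0 => L.word b == L.word a ++ [i]
  | 1 => L.word a == L.word b ++ [i]
  | 2 => (a == 0) && (b == 0) && decide (i < k)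
  | l + 3 => decide (l ≤ k) && decide (0 < mEntry M i l) &&
      (L.walk k (L.timeAt a i) (braidWord i l (mEntry M i l - 1)) a == some b)

def invCheck (k r : ℕ) : Bool :=
  (List.range k).all fun i =>
    let s := C.sigma i r
    (C.coef s k == C.coef r k) &&
    (decide (r < D.nroots / 2) || !(C.hiB k r) || (C.hiB k s && decide (D.nroots / 2 ≤ s)))

def wordCheck (k : ℕ) (lows : List ℕ) (w : List ℕ) : Bool :=
  (w.all fun i => decide (i ≤ k)) &&
  (lows.all fun y => decide (D.nroots / 2 ≤ C.act w.reverse y)) &&
  ((List.range w.length).all fun j =>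
    decide (D.nroots / 2 ≤ C.act (w.take j) (D.simple (w.getD j 0))))

def lowPos (k : ℕ) : List ℕ :=
  (List.range D.nroots).filter fun r => decide (D.nroots / 2 ≤ r) && !(C.hiB k r)

def levelCheck (k : ℕ) : Bool :=
  let L := C.levels.getD k ⟨[], [], [], []⟩
  decide (0 < L.words.length) && (L.word 0 == []) &&
  (List.range D.nroots).all (C.invCheck D k) &&
  decide (L.words.map (C.tuple D k)).Nodup &&
  L.words.all (C.wordCheck D k (C.lowPos D k)) &&
  ((List.range L.words.length).all fun a => (List.range (k + 1)).all fun i => edgeCheck M L k a i)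

def check : Bool := C.baseCheck D M && (List.range n).all (C.levelCheck D M)

/-- The length generating polynomial of the representatives at step `k`. -/
def stepPoly {R : Type*} [CommSemiring R] (k : ℕ) (q : R) : R :=
  ((C.levels.getD k ⟨[], [], [], []⟩).words.map fun w => q ^ w.length).sum

end Cert

end Cfsg.Agent.H37.Weyl
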