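import Cfsg.Agent.H37.Weyl.Cert

/-!
Soundness of the certificate: a faithful action of the Coxeter group on the root indices, its order
and the generating polynomial of the number of positive roots made negative.
-/
set_option autoImplicit false

namespace Cfsg.Agent.H37.Weyl

open Cfsg.Lie

variable {n : ℕ} (M : CoxeterMatrix (Fin n))

/-- The Coxeter generator with a natural number index. -/
def gen (i : ℕ) : M.Group := if h : i < n then M.simple ⟨i, h⟩ else 1

/-- The element of the Coxeter group given by a word. -/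
def wOf (w : List ℕ) : M.Group := (w.map (gen M)).prod

/-- The subgroup generated by the generators of index less than `k`. -/
def K (k : ℕ) : Subgroup M.Group := Subgroup.closure (gen M '' {i | i < k})

variable {M}

lemma gen_mul_self (i : ℕ) : gen M i * gen M i = 1 := by
  unfold gen
  split
  · exact M.toCoxeterSystem.simple_mul_simple_self _
  · exact one_mul 1

lemma gen_inv (i : ℕ) : (gen M i)⁻¹ = gen M i := inv_eq_of_mul_eq_one_right (gen_mul_self i)

lemma wOf_nil : wOf M [] = 1 := rfl
lemma wOf_cons (i : ℕ) (w : List ℕ) : wOf M (i :: w) = gen M i * wOf M w := by simp [wOf]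
lemma wOf_append (u w : List ℕ) : wOf M (u ++ w) = wOf M u * wOf M w := by simp [wOf]
lemma wOf_singleton (i : ℕ) : wOf M [i] = gen M i := by simp [wOf]

lemma gen_mem_K {i k : ℕ} (h : i < k) : gen M i ∈ K M k := Subgroup.subset_closure ⟨i, h, rfl⟩

lemma wOf_mem_K {k : ℕ} {w : List ℕ} (h : ∀ i ∈ w, i < k) : wOf M w ∈ K M k :=
  Subgroup.list_prod_mem _ fun g hg => by
    obtain ⟨i, hi, rfl⟩ := List.mem_map.1 hg
    exact gen_mem_K (h i hi)

lemma K_mono {j k : ℕ} (h : j ≤ k) : K M j ≤ K M k :=
  Subgroup.closure_mono (Set.image_mono fun _ hi => lt_of_lt_of_le hi h)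

lemma K_zero : K M 0 = ⊥ := by simp [K]

lemma K_top : K M n = ⊤ := by
  rw [eq_top_iff, ← M.toCoxeterSystem.subgroup_closure_range_simple]
  refine Subgroup.closure_mono ?_
  rintro _ ⟨i, rfl⟩
  exact ⟨i.val, i.isLt, by simp [gen]⟩

lemma braidWord_prod {i l : ℕ} (h : 0 < Cert.mEntry M i l) :
    wOf M (braidWord i l (Cert.mEntry M i l - 1)) = gen M i := by
  have hb : ∀ m, wOf M (braidWord i l m) = (gen M l * gen M i) ^ m * gen M l := by
    intro m
    induction m with
    | zero => simp [braidWord, wOf_singleton]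
    | succ m ih => simp [braidWord, wOf_cons, ih, pow_succ', mul_assoc]
  rw [hb]
  have hpow : (gen M l * gen M i) ^ Cert.mEntry M i l = 1 := by
    unfold Cert.mEntry at h ⊢
    split at h
    · next hil =>
      rw [dif_pos hil]
      simp only [gen, dif_pos hil.1, dif_pos hil.2]
      exact M.toCoxeterSystem.simple_mul_simple_pow' ⟨i, hil.1⟩ ⟨l, hil.2⟩
    · exact absurd h (lt_irrefl 0)
  obtain ⟨m, hm⟩ := Nat.exists_eq_succ_of_ne_zero h.ne'
  rw [hm] at hpow ⊢
  rw [Nat.succ_eq_add_one, Nat.add_sub_cancel]
  rw [pow_succ, ← mul_assoc] at hpow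
  rw [eq_inv_of_mul_eq_one_left hpow, gen_inv]

/-- A certificate passing the check. -/
structure Good (C : Cert) (D : ChevalleyDatum) (M : CoxeterMatrix (Fin n)) : Prop where
  ok : C.check D M = true

variable {C : Cert} {D : ChevalleyDatum}

/-- The level `k` of a certificate. -/
abbrev lev (C : Cert) (k : ℕ) : Level := C.levels.getD k ⟨[], [], [], []⟩

lemma Level.word_eq (L : Level) {a : ℕ} (ha : a < L.words.length) : L.word a = L.words[a] :=
  List.getD_eq_getElem _ _ ha

namespace Good

variable (hC : Good C D M)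
include hC

lemma base : C.baseCheck D M = true := by
  have := hC.ok; simp only [Cert.check, Bool.and_eq_true] at this; exact this.1

lemma level {k : ℕ} (hk : k < n) : C.levelCheck D M k = true := by
  have := hC.ok
  simp only [Cert.check, Bool.and_eq_true, List.all_eq_true, List.mem_range] at this
  exact this.2 k hk

lemma rank_eq : D.rank = n := by
  have := hC.base; simp only [Cert.baseCheck, Bool.and_eq_true, decide_eq_true_eq] at this
  exact this.1.1.1.1.1

lemma even : 2 * (D.nroots / 2) = D.nroots := by
  have := hC.base; simp only [Cert.baseCheck, Bool.and_eq_true, decide_eq_true_eq] at this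
  exact this.1.1.1.1.2

lemma simple_spec {i : ℕ} (hi : i < n) :
    D.nroots / 2 ≤ D.simple i ∧ D.simple i < D.nroots ∧
      C.sigma i (D.simple i) < D.nroots / 2 := by
  have := hC.base
  simp only [Cert.baseCheck, Bool.and_eq_true, decide_eq_true_eq, List.all_eq_true,
    List.mem_range] at this
  have := this.1.1.2 i hi
  exact ⟨this.1.1, this.1.2, this.2⟩

lemma sigma_spec {i r : ℕ} (hi : i < n) (hr : r < D.nroots) :
    C.sigma i r < D.nroots ∧ C.sigma i r = D.reflectRoot i r ∧ C.sigma i (C.sigma i r) = r ∧
      C.sigma i (D.nroots - 1 - r) = D.nroots - 1 - C.sigma i r ∧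
      (D.nroots / 2 ≤ r → r ≠ D.simple i → D.nroots / 2 ≤ C.sigma i r) := by
  have := hC.base
  simp only [Cert.baseCheck, Bool.and_eq_true, List.all_eq_true, List.mem_range] at this
  have := this.1.2 r hr
  simp only [Cert.rootCheck, Bool.and_eq_true, List.all_eq_true, List.mem_range] at this
  have := this.1.1 i hi
  simp only [Bool.or_eq_true, beq_iff_eq, decide_eq_true_eq] at this
  obtain ⟨⟨⟨⟨h1, h2⟩, h3⟩, h4⟩, h5⟩ := this
  refine ⟨h1, h2, h3, h4, fun hh hne => ?_⟩
  rcases h5 with (h5 | h5) | h5
  · omega
  · exact absurd h5 hne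
  · exact h5

lemma hiB_neg {k r : ℕ} (hk : k ≤ n) (hr : r < D.nroots) :
    C.hiB k (D.nroots - 1 - r) = C.hiB k r := by
  have := hC.base
  simp only [Cert.baseCheck, Bool.and_eq_true, List.all_eq_true, List.mem_range] at this
  have := this.1.2 r hr
  simp only [Cert.rootCheck, Bool.and_eq_true, List.all_eq_true, List.mem_range, beq_iff_eq] at this
  exact this.2 k (by omega)

lemma hiB_top {r : ℕ} (hr : r < D.nroots) : C.hiB n r = false := by
  have := hC.base
  simp only [Cert.baseCheck, Bool.and_eq_true, List.all_eq_true, List.mem_range] at this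
  have := this.1.2 r hr
  simp only [Cert.rootCheck, Bool.and_eq_true, Bool.not_eq_true'] at this
  exact this.1.2

/-- The permutation of the root indices given by the `i`-th reflection. -/
def sigmaPerm (i : Fin n) : Equiv.Perm (Fin D.nroots) :=
  Function.Involutive.toPerm
    (fun r => ⟨C.sigma i.val r.val, (hC.sigma_spec i.isLt r.isLt).1⟩)
    (fun r => Fin.ext (hC.sigma_spec i.isLt r.isLt).2.2.1)

lemma sigmaPerm_val (i : Fin n) (r : Fin D.nroots) :
    (hC.sigmaPerm i r).val = C.sigma i.val r.val := rfl

lemma liftable : M.IsLiftable hC.sigmaPerm := by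
  intro i j
  ext r
  have h := hC.base
  simp only [Cert.baseCheck, Cert.relCheck, Bool.and_eq_true, List.all_eq_true, List.mem_range,
    beq_iff_eq] at h
  have h' := h.2 i.val i.isLt j.val j.isLt r.val r.isLt
  simp only [Cert.mEntry, i.isLt, j.isLt, and_self, dite_true, Fin.eta] at h'
  have key : ∀ m : ℕ, (((hC.sigmaPerm i * hC.sigmaPerm j) ^ m) r).val
      = C.iter i.val j.val m r.val := by
    intro m
    induction m with
    | zero => simp [Cert.iter]
    | succ m ih => simp [pow_succ', Cert.iter, sigmaPerm_val, ih]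
  rw [key]
  simpa using h'

/-- The action of the Coxeter group on root indices. -/
def hom : M.Group →* Equiv.Perm (Fin D.nroots) :=
  M.toCoxeterSystem.lift ⟨hC.sigmaPerm, hC.liftable⟩

lemma hom_simple (i : Fin n) : hC.hom (M.simple i) = hC.sigmaPerm i :=
  M.toCoxeterSystem.lift_apply_simple hC.liftable i

lemma hom_simple_val (i : Fin n) (r : Fin D.nroots) :
    (hC.hom (M.simple i) r).val = D.reflectRoot i.val r.val := by
  rw [hom_simple, sigmaPerm_val]
  exact (hC.sigma_spec i.isLt r.isLt).2.1

lemma hom_gen_val {i : ℕ} (hi : i < n) (r : Fin D.nroots) :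
    (hC.hom (gen M i) r).val = C.sigma i r.val := by
  simp [gen, hi, hom_simple, sigmaPerm_val]

lemma hom_wOf_val {w : List ℕ} (hw : ∀ i ∈ w, i < n) (r : Fin D.nroots) :
    (hC.hom (wOf M w) r).val = C.act w r.val := by
  induction w with
  | nil => simp [wOf_nil, Cert.act]
  | cons i w ih =>
      rw [wOf_cons, map_mul, Equiv.Perm.mul_apply, hC.hom_gen_val (hw i (by simp)),
        ih fun j hj => hw j (by simp [hj])]
      rfl

lemma act_lt {w : List ℕ} (hw : ∀ i ∈ w, i < n) {r : ℕ} (hr : r < D.nroots) :
    C.act w r < D.nroots := by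
  rw [← hC.hom_wOf_val hw ⟨r, hr⟩]; exact Fin.isLt _

/-- Every element commutes with negation. -/
lemma hom_neg (g : M.Group) (r : Fin D.nroots) :
    (hC.hom g ⟨D.nroots - 1 - r.val, by omega⟩).val = D.nroots - 1 - (hC.hom g r).val := by
  have hg : g ∈ Subgroup.closure (Set.range M.simple) := by
    have : Subgroup.closure (Set.range M.toCoxeterSystem.simple) = ⊤ :=
      M.toCoxeterSystem.subgroup_closure_range_simple
    exact this.symm ▸ Subgroup.mem_top g
  revert r
  induction hg using Subgroup.closure_induction with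
  | mem g hg =>
      obtain ⟨i, rfl⟩ := hg
      intro r
      rw [hom_simple, sigmaPerm_val, sigmaPerm_val]
      exact (hC.sigma_spec i.isLt r.isLt).2.2.2.1
  | one => intro r; simp
  | mul a b _ _ ha hb =>
      intro r
      rw [map_mul, Equiv.Perm.mul_apply, Equiv.Perm.mul_apply, ← ha]
      congr 2
      exact Fin.ext (hb r)
  | inv a _ ha =>
      intro r
      set s := (hC.hom a)⁻¹ r
      have hs : hC.hom a s = r := by simp [s]
      have : hC.hom a ⟨D.nroots - 1 - s.val, by omega⟩ = ⟨D.nroots - 1 - r.val, by omega⟩ :=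
        Fin.ext (by rw [ha s, hs])
      rw [map_inv, ← this]
      simp [s]

lemma word_zero {k : ℕ} (hk : k < n) :
    0 < (lev C k).words.length ∧ (lev C k).word 0 = [] := by
  have := hC.level hk
  simp only [Cert.levelCheck, Bool.and_eq_true, decide_eq_true_eq, beq_iff_eq] at this
  exact ⟨this.1.1.1.1.1, this.1.1.1.1.2⟩

lemma invCheck' {k : ℕ} (hk : k < n) {r : ℕ} (hr : r < D.nroots) :
    C.invCheck D k r = true := by
  have := hC.level hk
  simp only [Cert.levelCheck, Bool.and_eq_true, List.all_eq_true, List.mem_range] at this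
  exact this.1.1.1.2 r hr

lemma tuple_nodup {k : ℕ} (hk : k < n) : ((lev C k).words.map (C.tuple D k)).Nodup := by
  have := hC.level hk
  simp only [Cert.levelCheck, Bool.and_eq_true, decide_eq_true_eq] at this
  exact this.1.1.2

lemma word_spec {k : ℕ} (hk : k < n) {w : List ℕ} (hw : w ∈ (lev C k).words) :
    (∀ i ∈ w, i ≤ k) ∧
      (∀ y < D.nroots, D.nroots / 2 ≤ y → C.hiB k y = false →
        D.nroots / 2 ≤ C.act w.reverse y) ∧
      ∀ j < w.length, D.nroots / 2 ≤ C.act (w.take j) (D.simple (w.getD j 0)) := by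
  have := hC.level hk
  simp only [Cert.levelCheck, Bool.and_eq_true, List.all_eq_true] at this
  have := this.1.2 w hw
  simp only [Cert.wordCheck, Bool.and_eq_true, List.all_eq_true, decide_eq_true_eq,
    List.mem_range, Cert.lowPos, List.mem_filter, Bool.not_eq_true'] at this
  exact ⟨this.1.1, fun y hy h1 h2 => this.1.2 y ⟨hy, h1, h2⟩, this.2⟩

lemma edge {k : ℕ} (hk : k < n) {a i : ℕ} (ha : a < (lev C k).words.length) (hi : i ≤ k) :
    Cert.edgeCheck M (lev C k) k a i = true := by
  have := hC.level hk
  simp only [Cert.levelCheck, Bool.and_eq_true, List.all_eq_true, List.mem_range] at this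
  exact this.2 a ha i (by omega)

lemma word_mem_K {k : ℕ} (hk : k < n) {a : ℕ} (ha : a < (lev C k).words.length) :
    wOf M ((lev C k).word a) ∈ K M (k + 1) :=
  wOf_mem_K fun i hi => Nat.lt_succ_of_le <| (hC.word_spec hk (by
    rw [Level.word_eq _ ha]
    exact List.getElem_mem ha)).1 i hi

/-- Every edge of the coset table holds in the Coxeter group. -/
lemma edge_holds {k : ℕ} (hk : k < n) (T : ℕ) :
    ∀ a i, a < (lev C k).words.length → i ≤ k → (lev C k).timeAt a i < T →
      wOf M ((lev C k).word a) * gen M i * (wOf M ((lev C k).word ((lev C k).tgtAt a i)))⁻¹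
        ∈ K M k ∧ (lev C k).tgtAt a i < (lev C k).words.length := by
  induction T with
  | zero => intro a i _ _ h; omega
  | succ T ih =>
    intro a i ha hi ht
    have he := hC.edge hk ha hi
    simp only [Cert.edgeCheck, Bool.and_eq_true, decide_eq_true_eq] at he
    refine ⟨?_, he.1⟩
    have he2 := he.2
    split at he2
    · rw [beq_iff_eq] at he2
      rw [he2, wOf_append, wOf_singleton, mul_inv_cancel]
      exact one_mem _
    · rw [beq_iff_eq] at he2
      rw [he2, wOf_append, wOf_singleton, mul_assoc (wOf M _), gen_mul_self, mul_one,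
        mul_inv_cancel]
      exact one_mem _
    · simp only [Bool.and_eq_true, beq_iff_eq, decide_eq_true_eq] at he2
      rw [he2.1.2, he2.1.1, (hC.word_zero hk).2, wOf_nil]
      simpa using gen_mem_K (M := M) he2.2
    · next l _ =>
      simp only [Bool.and_eq_true, beq_iff_eq, decide_eq_true_eq] at he2
      have hwalk : ∀ (w : List ℕ) (x y : ℕ), (lev C k).walk k ((lev C k).timeAt a i) w x = some y →
          wOf M ((lev C k).word x) * wOf M w * (wOf M ((lev C k).word y))⁻¹ ∈ K M k := by
        intro w
        induction w with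
        | nil =>
            intro x y h
            simp only [Level.walk, Option.some.injEq] at h
            subst h
            simp [wOf_nil]
        | cons j w ihw =>
            intro x y h
            simp only [Level.walk] at h
            split at h
            · next hc =>
              have h1 := (ih x j hc.2.1 hc.1 (by omega)).1
              have h2 := ihw _ _ h
              convert mul_mem h1 h2 using 1
              rw [wOf_cons]; group
            · exact absurd h (by simp)
      have := hwalk _ _ _ he2.2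
      rwa [braidWord_prod he2.1.2] at this

/-- Right multiplication by the new generators permutes the cosets. -/
lemma coset_exists {k : ℕ} (hk : k < n) {g : M.Group} (hg : g ∈ K M (k + 1)) :
    ∃ a < (lev C k).words.length, g * (wOf M ((lev C k).word a))⁻¹ ∈ K M k := by
  have hstep : ∀ x i, i ≤ k →
      (∃ a < (lev C k).words.length, x * (wOf M ((lev C k).word a))⁻¹ ∈ K M k) →
      ∃ a < (lev C k).words.length, x * gen M i * (wOf M ((lev C k).word a))⁻¹ ∈ K M k := by
    rintro x i hi ⟨a, ha, hxa⟩
    obtain ⟨h1, h2⟩ := hC.edge_holds hk ((lev C k).timeAt a i + 1) a i ha hi (by omega)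
    refine ⟨_, h2, ?_⟩
    convert mul_mem hxa h1 using 1
    group
  induction hg using Subgroup.closure_induction_right with
  | one => exact ⟨0, (hC.word_zero hk).1, by rw [(hC.word_zero hk).2, wOf_nil]; simp⟩
  | mul_right x _ y hy ih =>
      obtain ⟨i, hi, rfl⟩ := hy
      exact hstep x i (Nat.le_of_lt_succ hi) ih
  | mul_inv_cancel x _ y hy ih =>
      obtain ⟨i, hi, rfl⟩ := hy
      rw [gen_inv]
      exact hstep x i (Nat.le_of_lt_succ hi) ih

/-- `K k` fixes the `k`-th coefficient and the positive roots with support beyond `k`. -/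
lemma K_inv {k : ℕ} (hk : k ≤ n) {g : M.Group} (hg : g ∈ K M k) :
    ∀ r : Fin D.nroots,
      (k < n → C.coef (hC.hom g r).val k = C.coef r.val k) ∧
      (D.nroots / 2 ≤ r.val → C.hiB k r.val = true →
        D.nroots / 2 ≤ (hC.hom g r).val ∧ C.hiB k (hC.hom g r).val = true) := by
  rcases eq_or_lt_of_le hk with rfl | hk'
  · intro r
    refine ⟨fun h => absurd h (lt_irrefl _), fun _ h => ?_⟩
    rw [hC.hiB_top r.isLt] at h
    exact absurd h (by simp)
  induction hg using Subgroup.closure_induction_left with
  | one =>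
      intro r
      simp only [map_one, Equiv.Perm.one_apply]
      exact ⟨fun _ => trivial, fun h1 h2 => ⟨h1, h2⟩⟩
  | mul_left y hy x _ ih =>
      obtain ⟨i, hi, rfl⟩ := hy
      intro r
      rw [map_mul, Equiv.Perm.mul_apply, hC.hom_gen_val (lt_trans hi hk')]
      have hs := hC.invCheck' hk' (hC.hom x r).isLt
      simp only [Cert.invCheck, List.all_eq_true, List.mem_range] at hs
      have hs := hs i hi
      simp only [Bool.and_eq_true, Bool.or_eq_true, beq_iff_eq, decide_eq_true_eq,
        Bool.not_eq_true'] at hs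
      refine ⟨fun h => hs.1.trans ((ih r).1 h), fun h1 h2 => ?_⟩
      obtain ⟨h3, h4⟩ := (ih r).2 h1 h2
      rcases hs.2 with (h5 | h5) | h5
      · omega
      · rw [h4] at h5; simp at h5
      · exact ⟨h5.2, h5.1⟩
  | inv_mul_cancel y hy x _ ih =>
      obtain ⟨i, hi, rfl⟩ := hy
      intro r
      rw [gen_inv, map_mul, Equiv.Perm.mul_apply, hC.hom_gen_val (lt_trans hi hk')]
      have hs := hC.invCheck' hk' (hC.hom x r).isLt
      simp only [Cert.invCheck, List.all_eq_true, List.mem_range] at hs
      have hs := hs i hi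
      simp only [Bool.and_eq_true, Bool.or_eq_true, beq_iff_eq, decide_eq_true_eq,
        Bool.not_eq_true'] at hs
      refine ⟨fun h => hs.1.trans ((ih r).1 h), fun h1 h2 => ?_⟩
      obtain ⟨h3, h4⟩ := (ih r).2 h1 h2
      rcases hs.2 with (h5 | h5) | h5
      · omega
      · rw [h4] at h5; simp at h5
      · exact ⟨h5.2, h5.1⟩

lemma coset_unique {k : ℕ} (hk : k < n) {a b : ℕ} (ha : a < (lev C k).words.length)
    (hb : b < (lev C k).words.length) {g : M.Group} (hg : g ∈ K M k)
    (h : hC.hom (g * wOf M ((lev C k).word a)) = hC.hom (wOf M ((lev C k).word b))) : a = b := by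
  set L := lev C k
  have hwa : L.word a = L.words[a] := Level.word_eq L ha
  have hwb : L.word b = L.words[b] := Level.word_eq L hb
  have hla : ∀ i ∈ L.word a, i < n := fun i hi => by
    have := (hC.word_spec hk (by rw [hwa]; exact List.getElem_mem ha)).1 i hi; omega
  have hlb : ∀ i ∈ L.word b, i < n := fun i hi => by
    have := (hC.word_spec hk (by rw [hwb]; exact List.getElem_mem hb)).1 i hi; omega
  have ht : C.tuple D k (L.word a) = C.tuple D k (L.word b) := by
    simp only [Cert.tuple]
    refine List.map_congr_left fun i hi => ?_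
    rw [List.mem_range] at hi
    have hp : D.simple i < D.nroots := (hC.simple_spec (show i < n by omega)).2.1
    have h1 := congrArg (fun σ : Equiv.Perm _ => (σ ⟨_, hp⟩).val) h
    simp only [map_mul, Equiv.Perm.mul_apply, hC.hom_wOf_val hlb] at h1
    rw [← h1, ((hC.K_inv hk.le hg) _).1 hk, hC.hom_wOf_val hla]
  rw [hwa, hwb] at ht
  exact (hC.tuple_nodup hk).getElem_inj_iff (hi := by rw [List.length_map]; exact ha) (hj := by rw [List.length_map]; exact hb)
    |>.1 (by rw [List.getElem_map, List.getElem_map]; exact ht)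

lemma hom_injective : Function.Injective hC.hom := by
  suffices ∀ k ≤ n, ∀ g ∈ K M k, hC.hom g = 1 → g = 1 by
    refine (injective_iff_map_eq_one _).2 fun g hg => this n le_rfl g ?_ hg
    rw [K_top]; exact Subgroup.mem_top g
  intro k
  induction k with
  | zero => intro _ g hg _; rwa [K_zero, Subgroup.mem_bot] at hg
  | succ k ih =>
      intro hk g hg h1
      obtain ⟨a, ha, hga⟩ := hC.coset_exists (by omega) hg
      have h0 := hC.word_zero (k := k) (by omega)
      have ha0 : a = 0 := hC.coset_unique (by omega) ha h0.1 hga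
        (by rw [inv_mul_cancel_right, h1, h0.2, wOf_nil, map_one])
      subst ha0
      rw [h0.2, wOf_nil, inv_one, mul_one] at hga
      exact ih (by omega) g hga h1

lemma finite : Finite M.Group := Finite.of_injective hC.hom hC.hom_injective

/-- The number of positive roots sent to negative roots. -/
def inv (g : M.Group) : ℕ :=
  (Finset.univ.filter fun r : Fin D.nroots =>
    D.nroots / 2 ≤ r.val ∧ (hC.hom g r).val < D.nroots / 2).card

/-- Multiplying on the right by `s_i` raises `inv` by one when `g p_i` is positive. -/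
lemma inv_mul_gen {g : M.Group} {i : ℕ} (hi : i < n)
    (hp : D.nroots / 2 ≤ (hC.hom g ⟨D.simple i, (hC.simple_spec hi).2.1⟩).val) :
    hC.inv (g * gen M i) = hC.inv g + 1 := by
  set p : Fin D.nroots := ⟨D.simple i, (hC.simple_spec hi).2.1⟩
  set σ := hC.hom (gen M i)
  have hσ : ∀ r, (σ r).val = C.sigma i r.val := fun r => hC.hom_gen_val hi r
  have hσσ : ∀ r, σ (σ r) = r := fun r =>
    Fin.ext (by rw [hσ, hσ]; exact (hC.sigma_spec hi r.isLt).2.2.1)
  have hσp : (σ p).val < D.nroots / 2 := by rw [hσ]; exact (hC.simple_spec hi).2.2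
  have hmem : p ∈ Finset.univ.filter (fun r : Fin D.nroots =>
      D.nroots / 2 ≤ r.val ∧ (hC.hom (g * gen M i) r).val < D.nroots / 2) := by
    simp only [Finset.mem_filter, Finset.mem_univ, true_and, map_mul, Equiv.Perm.mul_apply]
    refine ⟨(hC.simple_spec hi).1, ?_⟩
    have hneg := hC.hom_neg g (σ p)
    -- `σ p` is the negative of `p`
    have hsp : (⟨D.nroots - 1 - (σ p).val, by omega⟩ : Fin D.nroots) = p := by
      by_contra hne
      have hlt := hC.sigma_spec hi (show D.nroots - 1 - (σ p).val < D.nroots by omega)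
      have hev := hC.even
      have h5 := hlt.2.2.2.2 (by omega) (fun h => hne (Fin.ext h))
      have h4 := (hC.sigma_spec hi (σ p).isLt).2.2.2.1
      rw [h4, ← hσ (σ p), hσσ p] at h5
      have := (hC.simple_spec hi).1
      have : D.nroots / 2 ≤ p.val := this
      omega
    rw [hsp] at hneg
    have hev := hC.even
    show (hC.hom g (σ p)).val < D.nroots / 2
    omega
  unfold inv
  rw [← Finset.insert_erase hmem, Finset.card_insert_of_notMem (Finset.notMem_erase _ _)]
  congr 1
  have key : ∀ r : Fin D.nroots, D.nroots / 2 ≤ r.val → r ≠ p →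
      D.nroots / 2 ≤ (σ r).val ∧ σ r ≠ p := by
    intro r hr hne
    refine ⟨by rw [hσ]; exact (hC.sigma_spec hi r.isLt).2.2.2.2 hr (fun h => hne (Fin.ext h)), ?_⟩
    intro h
    have : r = σ p := by rw [← h, hσσ]
    rw [this] at hr
    omega
  refine Finset.card_nbij' σ σ ?_ ?_ (fun r _ => hσσ r) (fun r _ => hσσ r)
  · intro r hr
    simp only [Finset.mem_coe, Finset.mem_erase, Finset.mem_filter, Finset.mem_univ, true_and,
      map_mul, Equiv.Perm.mul_apply] at hr ⊢
    exact ⟨(key r hr.2.1 hr.1).1, hr.2.2⟩
  · intro r hr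
    simp only [Finset.mem_coe, Finset.mem_erase, Finset.mem_filter, Finset.mem_univ, true_and,
      map_mul, Equiv.Perm.mul_apply] at hr ⊢
    have hne : r ≠ p := by rintro rfl; omega
    refine ⟨(key r hr.1 hne).2, (key r hr.1 hne).1, ?_⟩
    show (hC.hom g (σ (σ r))).val < _
    rw [hσσ]; exact hr.2

lemma inv_one : hC.inv 1 = 0 := by
  simp only [inv, map_one, Equiv.Perm.one_apply, Finset.card_eq_zero, Finset.filter_eq_empty_iff]
  intro r _ h; omega

lemma inv_word {k : ℕ} (hk : k < n) {w : List ℕ} (hw : w ∈ (lev C k).words) :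
    hC.inv (wOf M w) = w.length := by
  obtain ⟨hl, -, hp⟩ := hC.word_spec hk hw
  suffices ∀ j ≤ w.length, hC.inv (wOf M (w.take j)) = j by
    simpa using this w.length le_rfl
  intro j
  induction j with
  | zero => intro _; simpa [wOf_nil] using hC.inv_one
  | succ j ih =>
      intro hj
      have hjl : j < w.length := hj
      have hlt : ∀ i ∈ w.take j, i < n := fun i hi => by
        have := hl i (List.mem_of_mem_take hi); omega
      rw [List.take_succ_eq_append_getElem hjl, wOf_append, wOf_singleton,
        hC.inv_mul_gen (i := w[j]) (by have := hl _ (List.getElem_mem hjl); omega), ih (by omega)]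
      have := hp j hjl
      rw [List.getD_eq_getElem?_getD, List.getElem?_eq_getElem hjl] at this
      rw [hC.hom_wOf_val hlt]
      exact this

/-- Additivity of `inv` on a coset. -/
lemma inv_mul_word {k : ℕ} (hk : k < n) {w : List ℕ} (hw : w ∈ (lev C k).words)
    {g : M.Group} (hg : g ∈ K M k) : hC.inv (g * wOf M w) = hC.inv g + hC.inv (wOf M w) := by
  obtain ⟨hl, hlow, -⟩ := hC.word_spec hk hw
  have hln : ∀ i ∈ w, i < n := fun i hi => by have := hl i hi; omega
  have hlr : ∀ i ∈ w.reverse, i < n := fun i hi => hln i (List.mem_reverse.1 hi)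
  have hev := hC.even
  set x := hC.hom (wOf M w)
  have hrev : wOf M w.reverse = (wOf M w)⁻¹ := by
    clear hw hlow hl hln hlr x
    induction w with
    | nil => simp [wOf_nil]
    | cons i w ih => rw [List.reverse_cons, wOf_append, ih, wOf_singleton, wOf_cons, mul_inv_rev,
        gen_inv]
  have hinv : ∀ y, x (hC.hom (wOf M w.reverse) y) = y := fun y => by
    rw [hrev, map_inv]; simp [x]
  have hinv' : ∀ r, hC.hom (wOf M w.reverse) (x r) = r := fun r => by
    rw [hrev, map_inv]; simp [x]
  have hpos : ∀ r, C.hiB k (x r).val = false →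
      (D.nroots / 2 ≤ r.val ↔ D.nroots / 2 ≤ (x r).val) := by
    intro r hr
    by_cases hx : D.nroots / 2 ≤ (x r).val
    · simp only [hx, iff_true]
      have := hlow _ (x r).isLt hx hr
      rwa [← hC.hom_wOf_val hlr, hinv'] at this
    · simp only [hx, iff_false, not_le]
      have := hlow (D.nroots - 1 - (x r).val) (by omega) (by omega)
        (by rw [hC.hiB_neg hk.le (x r).isLt]; exact hr)
      rw [← hC.hom_wOf_val hlr ⟨_, by omega⟩, hC.hom_neg, hinv'] at this
      omega
  have hhi : ∀ y : Fin D.nroots, C.hiB k y.val = true →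
      (D.nroots / 2 ≤ (hC.hom g y).val ↔ D.nroots / 2 ≤ y.val) := by
    intro y hy
    by_cases hyp : D.nroots / 2 ≤ y.val
    · simp only [hyp, iff_true]
      exact ((hC.K_inv hk.le hg y).2 hyp hy).1
    · simp only [hyp, iff_false, not_le]
      have := ((hC.K_inv hk.le hg ⟨D.nroots - 1 - y.val, by omega⟩).2 (by simp only; omega)
        (by simp only; rw [hC.hiB_neg hk.le y.isLt]; exact hy)).1
      rw [hC.hom_neg] at this
      omega
  have hglow : ∀ y : Fin D.nroots, C.hiB k y.val = true → D.nroots / 2 ≤ y.val →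
      ¬ (hC.hom g y).val < D.nroots / 2 := by
    intro y hy hyp h
    have := (hhi y hy).2 hyp
    omega
  unfold inv
  have h2 : (Finset.univ.filter fun r : Fin D.nroots => D.nroots / 2 ≤ r.val ∧
      (x r).val < D.nroots / 2) = (Finset.univ.filter fun r : Fin D.nroots =>
      (D.nroots / 2 ≤ r.val ∧ (hC.hom (g * wOf M w) r).val < D.nroots / 2) ∧
        C.hiB k (x r).val = true) := by
    ext r
    simp only [Finset.mem_filter, Finset.mem_univ, true_and, map_mul, Equiv.Perm.mul_apply]
    constructor
    · rintro ⟨h1, h2⟩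
      have hb : C.hiB k (x r).val = true := by
        by_contra hb
        have := (hpos r (Bool.not_eq_true _ ▸ hb)).1 h1
        omega
      refine ⟨⟨h1, ?_⟩, hb⟩
      have := hhi (x r) hb
      change (hC.hom g (x r)).val < _
      omega
    · rintro ⟨⟨h1, h2⟩, hb⟩
      have := hhi (x r) hb
      change (hC.hom g (x r)).val < _ at h2
      exact ⟨h1, by omega⟩
  have h1 : (Finset.univ.filter fun y : Fin D.nroots => D.nroots / 2 ≤ y.val ∧
      (hC.hom g y).val < D.nroots / 2).card = (Finset.univ.filter fun r : Fin D.nroots =>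
      (D.nroots / 2 ≤ r.val ∧ (hC.hom (g * wOf M w) r).val < D.nroots / 2) ∧
        ¬ C.hiB k (x r).val = true).card := by
    refine Finset.card_nbij' (hC.hom (wOf M w.reverse)) x ?_ ?_ (fun y _ => hinv y)
      (fun r _ => hinv' r)
    · intro y hy
      simp only [Finset.mem_coe, Finset.mem_filter, Finset.mem_univ, true_and, map_mul,
        Equiv.Perm.mul_apply] at hy ⊢
      have hb : ¬ C.hiB k y.val = true := fun hb => hglow y hb hy.1 hy.2
      refine ⟨⟨?_, ?_⟩, ?_⟩
      · exact (hpos _ (by rw [hinv]; simpa using hb)).2 (by rw [hinv]; exact hy.1)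
      · show (hC.hom g (x _)).val < _
        rw [hinv]; exact hy.2
      · rw [hinv]; exact hb
    · intro r hr
      simp only [Finset.mem_coe, Finset.mem_filter, Finset.mem_univ, true_and, map_mul,
        Equiv.Perm.mul_apply] at hr ⊢
      exact ⟨(hpos r (Bool.not_eq_true _ ▸ hr.2)).1 hr.1.1, hr.1.2⟩
  rw [h1, h2]
  have hsplit := Finset.card_filter_add_card_filter_not
    (s := Finset.univ.filter fun r : Fin D.nroots =>
      D.nroots / 2 ≤ r.val ∧ (hC.hom (g * wOf M w) r).val < D.nroots / 2)
    (fun r => C.hiB k (x r).val = true)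
  rw [Finset.filter_filter, Finset.filter_filter] at hsplit
  omega

/-- The parametrisation of `K (k+1)` by cosets. -/
noncomputable def step {k : ℕ} (hk : k < n) :
    Fin (lev C k).words.length × ↥(K M k) ≃ ↥(K M (k + 1)) :=
  Equiv.ofBijective
    (fun p => ⟨p.2.1 * wOf M ((lev C k).word p.1.val),
      mul_mem (K_mono (Nat.le_succ k) p.2.2) (hC.word_mem_K hk p.1.isLt)⟩)
    ⟨fun p p' h => by
      have h' : p.2.1 * wOf M ((lev C k).word p.1.val)
          = p'.2.1 * wOf M ((lev C k).word p'.1.val) := congrArg Subtype.val h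
      have ha : p.1 = p'.1 := Fin.ext <| hC.coset_unique hk p.1.isLt p'.1.isLt
        (mul_mem (inv_mem p'.2.2) p.2.2) (by rw [mul_assoc, h', inv_mul_cancel_left])
      refine Prod.ext ha (Subtype.ext ?_)
      rw [ha] at h'
      exact mul_right_cancel h',
    fun g => by
      obtain ⟨a, ha, hga⟩ := hC.coset_exists hk g.2
      exact ⟨(⟨a, ha⟩, ⟨_, hga⟩), Subtype.ext (inv_mul_cancel_right _ _)⟩⟩

theorem card_K {k : ℕ} (hk : k ≤ n) :
    Nat.card (K M k) = ∏ j ∈ Finset.range k, (lev C j).words.length := by
  induction k with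
  | zero => rw [K_zero]; simp
  | succ k ih =>
      rw [← Nat.card_congr (hC.step (show k < n by omega)), Nat.card_prod, Nat.card_fin,
        ih (by omega), Finset.prod_range_succ, mul_comm]

theorem card_group : Nat.card M.Group = ∏ j ∈ Finset.range n, (lev C j).words.length := by
  rw [← hC.card_K le_rfl, K_top, Subgroup.card_top]

theorem sum_pow_inv_K {R : Type*} [CommSemiring R] (q : R) [Fintype M.Group] {k : ℕ} (hk : k ≤ n)
    [Fintype ↥(K M k)] :
    ∑ g : ↥(K M k), q ^ hC.inv g.1 = ∏ j ∈ Finset.range k, C.stepPoly j q := by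
  classical
  revert ‹Fintype ↥(K M k)›
  induction k with
  | zero =>
      intro _
      haveI : Subsingleton ↥(K M 0) := by rw [K_zero]; infer_instance
      rw [Fintype.sum_subsingleton _ (1 : ↥(K M 0))]
      simp [hC.inv_one]
  | succ k ih =>
      intro _
      have hk' : k < n := by omega
      rw [← (hC.step hk').sum_comp, Fintype.sum_prod_type, Finset.prod_range_succ,
        ← ih (by omega), Finset.sum_comm, Finset.sum_mul]
      refine Finset.sum_congr rfl fun g _ => ?_
      have hs : C.stepPoly k q
          = ∑ a : Fin (lev C k).words.length, q ^ ((lev C k).words[a.val]).length := by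
        simp only [Cert.stepPoly]
        rw [← Fin.sum_univ_fun_getElem (lev C k).words fun w => q ^ w.length]
      rw [hs, Finset.mul_sum]
      refine Finset.sum_congr rfl fun a _ => ?_
      have hmem : (lev C k).words[a.val] ∈ (lev C k).words := List.getElem_mem a.isLt
      show q ^ hC.inv (g.1 * wOf M ((lev C k).word a.val)) = _
      have hw : (lev C k).word a.val = (lev C k).words[a.val] := Level.word_eq _ a.isLt
      rw [hw, hC.inv_mul_word hk' hmem g.2, hC.inv_word hk' hmem, pow_add]

theorem sum_pow_inv {R : Type*} [CommSemiring R] (q : R) [Fintype M.Group] :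
    ∑ g : M.Group, q ^ hC.inv g = ∏ j ∈ Finset.range n, C.stepPoly j q := by
  classical
  rw [← hC.sum_pow_inv_K q le_rfl]
  exact ((Equiv.subtypeUnivEquiv (fun g => by rw [K_top]; trivial)).sum_comp
    fun g : M.Group => q ^ hC.inv g).symm

end Good

end Cfsg.Agent.H37.Weyl
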